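import Cfsg.Agent.H287.Pair.Tool
import Cfsg.Agent.H710.Spor.HNMix
import Cfsg.Agent.H845.HNNineteen
import Cfsg.Agent.H173.RS.HN

/-!
# `PairRow` for the Harada–Norton group (helper287)

`w` of order 22 (`#C(w) = 22`), `x` of order 19 (`#C(x) = 19`), `s` of order 21 (`#C(s) = 21`).
-/

set_option autoImplicit false

namespace Cfsg.Agent.H287.Pair.HN

open Cfsg Subgroup Cfsg.Agent.H713 Cfsg.Agent.H730.Pair Cfsg.Agent.H710.VanCount Cfsg.Agent.H710.TwoP
open Cfsg.Agent.H173.RS Cfsg.Agent.H173.RS.HNRow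
open Cfsg.Agent.H710.Spor.HN (card_hn finite_hn)

universe u v

theorem bad_nineteen : Bad Spor.HN 19 := by
  have := finite_hn
  have : Fact (Nat.Prime 19) := ⟨by norm_num⟩
  obtain ⟨x, hx, hc⟩ := H845.HNNineteen.hn_nineteen
  refine Bad.of_card (m := 14370048000000) (HasDZ.vz H710.Spor.HN.hasDZ_19 (by rw [hx])) (by norm_num) card_hn hc (by norm_num)
    (by norm_num) 1 1 (by norm_num)

open Cfsg.Agent.H710.Spor.HNMix in
theorem bad_eleven : Bad Spor.HN 11 := by
  have := finite_hn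
  have : Fact (Nat.Prime 11) := ⟨by norm_num⟩
  have h1 := cent_eq (p := 11) (by norm_num) orderOf_ψx orderOf_ψτ comm_xτ card_cent_w
  refine Bad.of_card (c := 22) (m := 12410496000000) H710.Spor.HNMix.vz (by norm_num) card_hn ?_ (by norm_num)
    (by norm_num) 1 2 (by norm_num)
  rw [h1, Nat.card_zpowers, orderOf_xt (p := 11) (by norm_num) orderOf_ψx orderOf_ψτ comm_xτ]

/-! ### the element of order 21 -/

/-- an element of order 3 in `A5` -/
def c3 : A5 := ⟨Equiv.swap 0 1 * Equiv.swap 1 2, by rw [Equiv.Perm.mem_alternatingGroup]; decide +kernel⟩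

/-- the element of order 3 -/
noncomputable def v : Spor.HN := (g0 c3 : Spor.HN)

theorem orderOf_c3 : orderOf c3 = 3 := by
  have : Fact (Nat.Prime 3) := ⟨Nat.prime_three⟩
  refine orderOf_eq_prime ?_ ?_
  · apply Subtype.ext
    change (Equiv.swap 0 1 * Equiv.swap 1 2 : Equiv.Perm (Fin 5)) ^ 3 = 1
    decide +kernel
  · intro h
    have h1 := congrArg Subtype.val h
    change (Equiv.swap 0 1 * Equiv.swap 1 2 : Equiv.Perm (Fin 5)) = 1 at h1
    exact absurd h1 (by decide +kernel)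

theorem orderOf_v : orderOf v = 3 := by
  rw [v, Subgroup.orderOf_coe, orderOf_injective g0 g0_inj, orderOf_c3]

theorem uv_comm : Commute u v := (mem_centralizer_singleton_iff.1 (g0 c3).2).symm

theorem fac7 : (Nat.card Spor.HN).factorization 7 = 1 := by
  have : Fact (Nat.Prime 7) := ⟨by norm_num⟩
  rw [card_hn]
  exact factorization_eq_one (by norm_num) (by norm_num)

theorem fac3 : (Nat.card ↥(centralizer ({u} : Set Spor.HN))).factorization 3 = 1 := by
  have : Fact (Nat.Prime 3) := ⟨Nat.prime_three⟩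
  have h : Nat.card ↥(centralizer ({u} : Set Spor.HN)) = 420 := card_X
  rw [h]
  exact factorization_eq_one (by norm_num) (by norm_num)

/-- powers of `u v` -/
theorem uv_pow7 : ∃ k : ℕ, (u * v) ^ k = u := by
  refine ⟨15, ?_⟩
  have h7 : u ^ 7 = 1 := by rw [← orderOf_u, pow_orderOf_eq_one]
  have h3 : v ^ 3 = 1 := by rw [← orderOf_v, pow_orderOf_eq_one]
  rw [uv_comm.mul_pow, (by norm_num : 15 = 7 * 2 + 1), pow_succ u, pow_mul, h7, one_pow, one_mul,
    (by norm_num : 7 * 2 + 1 = 3 * 5), pow_mul, h3, one_pow, mul_one]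

theorem uv_pow3 : ∃ k : ℕ, (u * v) ^ k = v := by
  refine ⟨7, ?_⟩
  have h7 : u ^ 7 = 1 := by rw [← orderOf_u, pow_orderOf_eq_one]
  have h3 : v ^ 3 = 1 := by rw [← orderOf_v, pow_orderOf_eq_one]
  rw [uv_comm.mul_pow, h7, one_mul, (by norm_num : 7 = 3 * 2 + 1), pow_succ, pow_mul, h3, one_pow, one_mul]

theorem cent_comm {x : Spor.HN} (hx : x ∈ centralizer ({u * v} : Set Spor.HN)) : Commute x u ∧ Commute x v := by
  have h : Commute x (u * v) := mem_centralizer_singleton_iff.1 hx
  obtain ⟨k, hk⟩ := uv_pow7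
  obtain ⟨l, hl⟩ := uv_pow3
  exact ⟨by rw [← hk]; exact h.pow_right k, by rw [← hl]; exact h.pow_right l⟩

theorem card_cent : Nat.card ↥(centralizer ({u * v} : Set Spor.HN)) = 21 := by
  have := finite_hn
  have huv : orderOf (u * v) = 21 := by
    rw [uv_comm.orderOf_mul_eq_mul_orderOf_of_coprime (by rw [orderOf_u, orderOf_v]; norm_num), orderOf_u, orderOf_v]
  have hle : centralizer ({u * v} : Set Spor.HN) ≤ X := fun x hx =>
    mem_centralizer_singleton_iff.2 (cent_comm hx).1
  have h420 : Nat.card ↥(centralizer ({u * v} : Set Spor.HN)) ∣ 420 := by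
    rw [← card_X]
    exact Subgroup.card_dvd_of_le hle
  have h21 : 21 ∣ Nat.card ↥(centralizer ({u * v} : Set Spor.HN)) := by
    have h1 : zpowers (u * v) ≤ centralizer ({u * v} : Set Spor.HN) := by
      rw [zpowers_le, mem_centralizer_singleton_iff]
    have h2 := Subgroup.card_dvd_of_le h1
    rwa [Nat.card_zpowers, huv] at h2
  have h5 : ¬ 5 ∣ Nat.card ↥(centralizer ({u * v} : Set Spor.HN)) := by
    intro h
    have : Fact (Nat.Prime 5) := ⟨Nat.prime_five⟩
    obtain ⟨z, hz⟩ := exists_prime_orderOf_dvd_card' 5 h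
    have hz' : orderOf (z : Spor.HN) = 5 := by rw [Subgroup.orderOf_coe, hz]
    obtain ⟨h1, h2⟩ := cent_comm z.2
    refine no_fifteen (x := (z : Spor.HN) * v) ?_ ?_
    · exact ((h1.symm.mul_right uv_comm)).eq
    · rw [h2.orderOf_mul_eq_mul_orderOf_of_coprime (by rw [hz', orderOf_v]; norm_num), hz', orderOf_v]
  have h2 : ¬ 2 ∣ Nat.card ↥(centralizer ({u * v} : Set Spor.HN)) := by
    intro h
    have : Fact (Nat.Prime 2) := ⟨Nat.prime_two⟩
    obtain ⟨z, hz⟩ := exists_prime_orderOf_dvd_card' 2 h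
    have hz' : orderOf (z : Spor.HN) = 2 := by rw [Subgroup.orderOf_coe, hz]
    obtain ⟨h1, h2⟩ := cent_comm z.2
    have h28 := card_inf_le hz' orderOf_u h1.eq
    set D : Subgroup Spor.HN := centralizer ({(z : Spor.HN)} : Set Spor.HN) ⊓ centralizer ({u} : Set Spor.HN) with hD
    have hzD : (z : Spor.HN) ∈ D := ⟨mem_centralizer_singleton_iff.2 rfl, mem_centralizer_singleton_iff.2 h1⟩
    have huD : u ∈ D := ⟨mem_centralizer_singleton_iff.2 h1.symm, mem_centralizer_singleton_iff.2 rfl⟩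
    have hvD : v ∈ D := ⟨mem_centralizer_singleton_iff.2 h2.symm, mem_centralizer_singleton_iff.2 uv_comm.symm⟩
    have d2 : 2 ∣ Nat.card D := by
      have h3 := orderOf_dvd_natCard (⟨z, hzD⟩ : D)
      rwa [Subgroup.orderOf_mk, hz'] at h3
    have d7 : 7 ∣ Nat.card D := by
      have h3 := orderOf_dvd_natCard (⟨u, huD⟩ : D)
      rwa [Subgroup.orderOf_mk, orderOf_u] at h3
    have d3 : 3 ∣ Nat.card D := by
      have h3 := orderOf_dvd_natCard (⟨v, hvD⟩ : D)
      rwa [Subgroup.orderOf_mk, orderOf_v] at h3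
    have hpos : 0 < Nat.card D := Nat.card_pos
    omega
  obtain ⟨m, hm⟩ := h21
  rw [hm] at h420 h5 h2 ⊢
  have h20 : m ∣ 20 := by
    refine Nat.dvd_of_mul_dvd_mul_left (by norm_num : 0 < 21) ?_
    exact h420
  have hm2 : ¬ 2 ∣ m := fun h => h2 (h.mul_left _)
  have hm5 : ¬ 5 ∣ m := fun h => h5 (h.mul_left _)
  have hle20 := Nat.le_of_dvd (by norm_num) h20
  interval_cases m <;> omega

theorem vz21 : VZ Spor.HN (u * v) := by
  have := finite_hn
  have : Fact (Nat.Prime 7) := ⟨by norm_num⟩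
  have : Fact (Nat.Prime 3) := ⟨Nat.prime_three⟩
  refine vz_of_pq (p := 7) (q := 3) (by norm_num) fac7 orderOf_u orderOf_v uv_comm fac3 ?_
  rw [card_cent]
  exact lt_of_lt_of_le (by norm_num) H710.Spor.HNMix.card_conjClasses

theorem bad_seven : Bad Spor.HN 7 := by
  have := finite_hn
  exact Bad.of_card (m := 13001472000000) vz21 (by norm_num) card_hn card_cent (by norm_num)
    (by norm_num) 1 2 (by norm_num)

theorem row : PairRow Spor.HN :=
  pairRow_of_three (a := 7) (b := 11) (c := 19) (by norm_num) (by norm_num) (by norm_num) (by norm_num) (by norm_num)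
    (by rw [card_hn]; norm_num) (by rw [card_hn]; norm_num) bad_seven bad_eleven bad_nineteen

/-- **`PairRow` for the Harada–Norton group.** -/
theorem pairRow {K : Type*} [Group K] (h : Spor.IsoHN K) : Cfsg.Agent.H730.Pair.PairRow K := by
  obtain ⟨e⟩ := h
  exact PairRow.mulEquiv e.symm row

end Cfsg.Agent.H287.Pair.HN
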