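import Cfsg.Agent.H287.Pair.Tool
import Cfsg.Agent.H713.Spor.HS
import Cfsg.Agent.H904.HSCent
import Cfsg.Agent.H695.Spor.RowB

/-!
# `PairRow` for the Higman–Sims group (helper287)

Elements of order 11 (`#C = 11`), of order 7 (`#C ∣ 14`) and of order 6 (vanishing of the character of degree 22).
-/

set_option autoImplicit false

namespace Cfsg.Agent.H287.Pair.HS

open Cfsg Subgroup Cfsg.Agent.H713 Cfsg.Agent.H730.Pair Cfsg.Agent.H710.VanCount Cfsg.Agent.H710.TwoP
open Cfsg.Agent.H620.SporCrit Cfsg.Agent.H419.Row Cfsg.Agent.H419.Count Cfsg.Agent.H419.LeechIrr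
open Cfsg.Agent.H419.Spor.Mathieu Cfsg.Agent.H419.TwoTrans Cfsg.Agent.H695.Spor.Tool Cfsg.Agent.H695.Spor.RowB
open Cfsg.Agent.H419.LeechFix Cfsg.Agent.Characters.Core

universe u v

theorem card_hs : Nat.card Spor.HS = 44352000 := H419.Spor.HS.facts.2

theorem finite_hs : Finite Spor.HS := Nat.finite_of_card_ne_zero (by rw [card_hs]; norm_num)

theorem exists_eleven : ∃ x : Spor.HS, orderOf x = 11 ∧ Nat.card (centralizer ({x} : Set Spor.HS)) = 11 := by
  have := finite_hs
  obtain ⟨D, ψ, R⟩ := H904.HSCent.exists_rep (L := Spor.HS) ⟨MulEquiv.refl _⟩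
  obtain ⟨x, hx, hc⟩ := R.exists_eleven
  refine ⟨x, hx, le_antisymm hc (Nat.le_of_dvd Nat.card_pos ?_)⟩
  have h1 := orderOf_dvd_natCard (⟨x, mem_centralizer_singleton_iff.2 rfl⟩ : centralizer ({x} : Set Spor.HS))
  rwa [Subgroup.orderOf_mk, hx] at h1

theorem exists_seven : ∃ x : Spor.HS, orderOf x = 7 ∧ (Nat.card (centralizer ({x} : Set Spor.HS)) = 7 ∨
    Nat.card (centralizer ({x} : Set Spor.HS)) = 14) := by
  have := finite_hs
  obtain ⟨D, ψ, R⟩ := H904.HSCent.exists_rep (L := Spor.HS) ⟨MulEquiv.refl _⟩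
  obtain ⟨x, hx, hc⟩ := R.exists_seven
  have h1 := orderOf_dvd_natCard (⟨x, mem_centralizer_singleton_iff.2 rfl⟩ : centralizer ({x} : Set Spor.HS))
  rw [Subgroup.orderOf_mk, hx] at h1
  have h2 : 0 < Nat.card (centralizer ({x} : Set Spor.HS)) := Nat.card_pos
  exact ⟨x, hx, by omega⟩

theorem vord6 : VOrd Spor.HS 6 := by
  obtain ⟨hs, hcard⟩ := Cfsg.Agent.H419.Spor.HS.facts
  have hfin : Finite Spor.HS := Nat.finite_of_card_ne_zero (by rw [hcard]; norm_num)
  obtain ⟨μ, hμ⟩ := irr22 Cfsg.Agent.H419.Spor.HS.inc Cfsg.Agent.H419.Spor.HS.inc_injective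
    (by rw [hcard]; norm_num) (by rw [hcard]; norm_num)
    Cfsg.Agent.H419.Spor.HS.k ⟨Cfsg.Agent.H419.Spor.HS.y6, fun h => by
      have := Cfsg.Agent.H419.Spor.HS.order
      rw [h, orderOf_one] at this
      norm_num at this⟩ Cfsg.Agent.H419.Spor.HS.inc_k (w := Spor.leechV) (fun h => by
      have := congrArg (fun v : leechLattice => (v : GolayPt → ℤ) none) h
      exact absurd this (by decide)) Cfsg.Agent.H419.Spor.HS.inc_fix
  have hμ1 : (μ : Spor.HS → ℂ) 1 = 22 := by
    have h1 := hμ 1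
    have h6 : lchi Cfsg.Agent.H419.Spor.HS.inc 1 = 24 := by
      rw [lchi, map_one, Cfsg.Agent.SigZeroCo2.Lin.tr8_one]
      norm_num
    rw [h6] at h1
    linear_combination -h1
  exact vord_six μ hμ1 _ Cfsg.Agent.H419.Spor.HS.order

theorem bad_eleven : Bad Spor.HS 11 := by
  have := finite_hs
  have : Fact (Nat.Prime 11) := ⟨by norm_num⟩
  obtain ⟨x, hx, hc⟩ := exists_eleven
  exact Bad.of_card (m := 4032000) (HasDZ.vz (H713.Spor.HS.hasDZ 11 (Or.inr rfl)) (by rw [hx])) (by norm_num) card_hs hc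
    (by norm_num) (by norm_num) 1 1 (by norm_num)

theorem bad_seven : Bad Spor.HS 7 := by
  have := finite_hs
  have : Fact (Nat.Prime 7) := ⟨by norm_num⟩
  obtain ⟨x, hx, hc⟩ := exists_seven
  rcases hc with hc | hc
  · exact Bad.of_card (m := 6336000) (HasDZ.vz (H713.Spor.HS.hasDZ 7 (Or.inl rfl)) (by rw [hx])) (by norm_num) card_hs hc
      (by norm_num) (by norm_num) 1 1 (by norm_num)
  · exact Bad.of_card (m := 3168000) (HasDZ.vz (H713.Spor.HS.hasDZ 7 (Or.inl rfl)) (by rw [hx])) (by norm_num) card_hs hc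
      (by norm_num) (by norm_num) 1 2 (by norm_num)

theorem row : PairRow Spor.HS := by
  have := finite_hs
  have : Fact (Nat.Prime 7) := ⟨by norm_num⟩
  have : Fact (Nat.Prime 11) := ⟨by norm_num⟩
  refine pairRow_of_two (a := 7) (b := 11) (by norm_num) bad_seven bad_eleven ?_
  obtain ⟨s, hs, hs6⟩ := vord6
  refine ⟨s, hs, ?_, ?_⟩
  · refine dvd_index_of_not_dvd (k := 1) (by norm_num) (by rw [card_hs]; norm_num) ?_
    rw [pow_one]
    obtain ⟨x, hx, hc⟩ := exists_seven
    exact not_dvd_card_cent (by rw [card_hs]; exact factorization_eq_one (by norm_num) (by norm_num)) hx (m := 14)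
      (by omega) (by rw [hs6]; norm_num) (by rw [hs6]; norm_num)
  · refine dvd_index_of_not_dvd (k := 1) (by norm_num) (by rw [card_hs]; norm_num) ?_
    rw [pow_one]
    obtain ⟨x, hx, hc⟩ := exists_eleven
    exact not_dvd_card_cent (by rw [card_hs]; exact factorization_eq_one (by norm_num) (by norm_num)) hx (m := 11)
      (by omega) (by rw [hs6]; norm_num) (by rw [hs6]; norm_num)

/-- **`PairRow` for the Higman–Sims group.** -/
theorem pairRow {K : Type*} [Group K] (h : Spor.IsoHS K) : Cfsg.Agent.H730.Pair.PairRow K := by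
  obtain ⟨e⟩ := h
  exact PairRow.mulEquiv e.symm row

end Cfsg.Agent.H287.Pair.HS
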